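import Groth.Agent.SSMod.K755.Plan4
import Groth.Agent.SSMod.K761.Ends
import Groth.Agent.SSMod.K122.ValBase
import Groth.Agent.CurvSt.K897.ContractNode
import Groth.Agent.Curves.K326.NodeInter
import Groth.Agent.Synt.K563.NodField
import Groth.Agent.CurvesC.DualInvNodal
import Groth.Agent.S0558
import Groth.Agent.S0658

/-!
# The target of a contraction of components with at most two special points is nodal

`K330.NodalK.main : K755.SSPlan.NodalK`.
-/

set_option autoImplicit false
universe u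
open CategoryTheory CategoryTheory.Limits AlgebraicGeometry TopologicalSpace IsLocalRing

namespace K330.NodalK

open Groth.Agent K897.Contract K897.UnionTop

/-- closed subsets of dimension one of a Jacobson space are infinite -/
theorem infinite_of_dim {X : Type*} [TopologicalSpace X] [JacobsonSpace X] {C : Set X} (hC : IsClosed C)
    (hd : topologicalKrullDim C = 1) : C.Infinite := by
  intro hfin
  have : Finite C := hfin
  have hJ : JacobsonSpace C := JacobsonSpace.of_isClosedEmbedding hC.isClosedEmbedding_subtypeVal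
  have h1 : IsClosed (closedPoints C) := by
    rw [← Set.biUnion_of_singleton (closedPoints C)]
    exact (Set.toFinite _).isClosed_biUnion fun x hx => hx
  have h2 : closedPoints C = Set.univ := by
    rw [← h1.closure_eq]
    exact closure_closedPoints
  have : T1Space C := ⟨fun x => by
    have : x ∈ closedPoints C := h2 ▸ Set.mem_univ _
    exact this⟩
  have : DiscreteTopology C := inferInstance
  have h0 := topologicalKrullDim_zero_of_discreteTopology C
  rw [hd] at h0
  exact absurd h0 (by decide)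

/-- In a nodal curve over a field, the closure of a non-closed point is an irreducible component. -/
theorem closure_mem {k : Type u} [Field k] {X : Scheme.{u}} (q : X ⟶ Spec (CommRingCat.of k))
    (hX : Curv2.IsNodalFamily q) (x : X)
    (hx : ¬ IsClosed ({x} : Set X)) : closure ({x} : Set X) ∈ irreducibleComponents (X : Type u) := by
  have hd := CurvesB.NodeSch2.topologicalKrullDim_le_one_of_components (K761.Ends.nodal_field q hX).2
  have h0 := CurvesB.DimPts.ringKrullDim_stalk_eq_zero_of_not_isClosed hd x hx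
  rw [ringKrullDim_stalk_eq_coheight] at h0
  have h1 : Order.coheight x = 0 := by exact_mod_cast h0
  rw [Order.coheight_eq_zero] at h1
  rw [CurvesB.DimOneTop.closure_mem_irreducibleComponents_iff]
  intro y hy
  have h3 : x ≤ y := hy
  have h4 : y ≤ x := h1 h3
  exact (Specializes.antisymm hy (h4 : x ⤳ y)).eq

/-- the points common to a union of components and the rest are not smooth -/
theorem mem_nonsmoothPts {k : Type u} [Field k] {X : Scheme.{u}} (p : X ⟶ Spec (CommRingCat.of k))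
    [LocallyOfFinitePresentation p] [IsReduced X] [IsNoetherian X] {E : Set X} (hE : IsUnion E) {x : X}
    (hx : x ∈ E) (hx' : x ∈ closure Eᶜ) : x ∈ DualGr.nonsmoothPts p := by
  by_contra hcon
  rw [← K761.Ends.mem_smoothLocus_iff] at hcon
  have h1 : IsRegularLocalRing (X.presheaf.stalk x) :=
    VarietyA.RegSmoothSch.isRegularLocalRing_stalk_of_mem_smoothLocus p x hcon
  exact K326.NodeInter.not_isDomain ⟨E, hE.isClosed⟩ (subset_closure_interior hE) x hx hx'
    (S0558.result (X.presheaf.stalk x))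

/-- regular points of schemes over algebraically closed fields are smooth -/
theorem notMem_nonsmoothPts {k : Type u} [Field k] [IsAlgClosed k] {Y : Scheme.{u}}
    (q : Y ⟶ Spec (CommRingCat.of k)) [LocallyOfFiniteType q] (y : Y)
    (h : IsRegularLocalRing (Y.presheaf.stalk y)) : y ∉ DualGr.nonsmoothPts q := by
  have hN : IsLocallyNoetherian (Spec (CommRingCat.of k)) := inferInstance
  have hfp : LocallyOfFinitePresentation q := inferInstance
  rw [← K761.Ends.mem_smoothLocus_iff]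
  exact (VarietyA.SmoothReg.mem_smoothLocus_iff_of_perfectField q y).2 h

theorem res_apply {X Y : Scheme.{u}} (c : X ⟶ Y) (V : Y.Opens) (x : X) (hx : c x ∈ V) :
    V.ι ((c ∣_ V) ⟨x, hx⟩) = c x :=
  congrArg (fun f : (c ⁻¹ᵁ V : Scheme.{u}) ⟶ Y => f ⟨x, hx⟩) (morphismRestrict_ι c V)

theorem eq_of_eq {X Y : Scheme.{u}} (c : X ⟶ Y) (V : Y.Opens) [IsIso (c ∣_ V)] {x x' : X} (hx : c x ∈ V)
    (h : c x = c x') : x = x' := by
  have hx' : c x' ∈ V := h ▸ hx
  have h1 : (c ∣_ V) ⟨x, hx⟩ = (c ∣_ V) ⟨x', hx'⟩ := by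
    apply V.ι.isOpenEmbedding.injective
    rw [res_apply c V x hx, res_apply c V x' hx', h]
  have h2 := (c ∣_ V).homeomorph.injective h1
  exact congrArg Subtype.val h2

/-- `σ` is injective where it is an isomorphism onto. -/
theorem subsingleton_preimage {X Y : Scheme.{u}} (σ : X ⟶ Y) (V : Y.Opens) [IsIso (σ ∣_ V)] {y : Y} (hy : y ∈ V) :
    (σ ⁻¹' {y} : Set X).Subsingleton := by
  intro a ha b hb
  exact eq_of_eq σ V (show σ a ∈ V by rw [show σ a = y from ha]; exact hy) ((show σ a = y from ha).trans hb.symm)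

section

variable {k : Type u} [Field k] [IsAlgClosed k] {X Y : Scheme.{u}}
  (q : Y ⟶ Spec (CommRingCat.of k)) [LocallyOfFiniteType q] (σ : X ⟶ Y) [IsProper σ]
  (hN : Curv2.IsNodalFamily (σ ≫ q)) [QuasiCompact (σ ≫ q)] (hO : ∀ U : Y.Opens, IsIso (σ.app U))
  (hd : Cyc.HasRelDim q 1) (y₀ : Y) (hy₀ : IsClosed ({y₀} : Set Y))
  (hcomp : ∀ x, σ x = y₀ → ∃ ξ, σ ξ = y₀ ∧ ξ ⤳ x ∧ ¬ IsClosed ({ξ} : Set X))
  (hfin : ∀ y, IsClosed ({y} : Set Y) → y ≠ y₀ → (σ ⁻¹' {y} : Set X).Finite)

omit [IsAlgClosed k] in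
include hN in
theorem isNoetherian : IsNoetherian X := by
  have h1 := hN.2.1
  have h2 : CompactSpace X := QuasiCompact.compactSpace_of_compactSpace (σ ≫ q)
  have h3 : IsLocallyNoetherian X := LocallyOfFiniteType.isLocallyNoetherian (σ ≫ q)
  exact {}

omit [IsAlgClosed k] [QuasiCompact (σ ≫ q)] in
include hN hy₀ hcomp hfin in
/-- the contracted components are those over `y₀` -/
theorem conE_eq_preimage [IsNoetherian X] : conE σ = σ ⁻¹' {y₀} := by
  have hfp := hN.2.1
  have hJ : JacobsonSpace X := LocallyOfFiniteType.jacobsonSpace (σ ≫ q)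
  have hpure := (K761.Ends.nodal_field (σ ≫ q) hN).2
  apply Set.Subset.antisymm
  · rintro x ⟨C, ⟨hC, y, hy⟩, hxC⟩
    have hyx : σ x = y := hy hxC
    have hcl := isClosed_of_mem_image σ σ.isClosedMap ⟨x, ⟨C, ⟨hC, y, hy⟩, hxC⟩, hyx⟩
    by_contra hne
    have hne' : y ≠ y₀ := by rintro rfl; exact hne hyx
    exact infinite_of_dim (isClosed_of_mem_irreducibleComponents C hC) (hpure C hC)
      ((hfin y hcl hne').subset hy)
  · intro x hx
    obtain ⟨ξ, hξ, hξx, hncl⟩ := hcomp x hx
    refine ⟨closure {ξ}, ⟨closure_mem (σ ≫ q) hN ξ hncl, y₀, ?_⟩, specializes_iff_mem_closure.1 hξx⟩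
    exact closure_minimal (by rw [Set.singleton_subset_iff]; exact hξ) (hy₀.preimage σ.continuous)

omit [IsAlgClosed k] [QuasiCompact (σ ≫ q)] in
include hN hy₀ hcomp hfin in
theorem conD_eq [IsNoetherian X] : conD σ = closure (σ ⁻¹' {y₀} : Set X)ᶜ := by
  rw [← conE_eq_preimage q σ hN y₀ hy₀ hcomp hfin, conE_eq, closure_compl_closure_compl (isUnion_conD σ)]

omit [IsAlgClosed k] [LocallyOfFiniteType q] [QuasiCompact (σ ≫ q)] in
include hO hd hy₀ in
/-- the fibre over `y₀` meets the rest -/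
theorem nonempty_outer : (σ ⁻¹' {y₀} ∩ closure (σ ⁻¹' {y₀} : Set X)ᶜ).Nonempty := by
  by_contra hcon
  rw [Set.not_nonempty_iff_eq_empty] at hcon
  have hcl : IsClosed (σ ⁻¹' {y₀} : Set X) := hy₀.preimage σ.continuous
  have h1 : IsClosed (σ ⁻¹' {y₀} : Set X)ᶜ := by
    rw [← closure_subset_iff_isClosed]
    intro x hx hx'
    have : x ∈ (σ ⁻¹' {y₀} ∩ closure (σ ⁻¹' {y₀} : Set X)ᶜ) := ⟨hx', hx⟩
    rw [hcon] at this
    exact this
  have hsur := K897.Contract.surjective σ hO σ.isClosedMap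
  have h2 : σ '' (σ ⁻¹' {y₀} : Set X)ᶜ = ({y₀} : Set Y)ᶜ := by
    rw [← Set.preimage_compl, Set.image_preimage_eq _ hsur]
  have h3 : IsOpen ({y₀} : Set Y) := by
    rw [← isClosed_compl_iff, ← h2]
    exact σ.isClosedMap _ h1
  have h4 := (K122.ValBase.hasRelDim_field q 1).1 hd
  -- `{y₀}` is an irreducible component
  have h5 : ({y₀} : Set Y) ∈ irreducibleComponents (Y : Type u) := by
    refine ⟨isIrreducible_singleton, fun Z hZ hle z hz => ?_⟩
    have h6 : y₀ ∈ Z := hle rfl
    by_contra hne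
    obtain ⟨w, -, hw1, hw2⟩ := hZ.2 _ _ h3 hy₀.isOpen_compl ⟨y₀, h6, rfl⟩ ⟨z, hz, hne⟩
    exact hw2 hw1
  have h7 := h4 _ h5
  have h8 : topologicalKrullDim ({y₀} : Set Y) ≤ 0 := topologicalKrullDim_zero_of_discreteTopology _
  rw [h7] at h8
  exact absurd h8 (by decide)

end

theorem main : K755.SSPlan.NodalK.{u} := by
  intro k _ _ X Y D q _ σ _ i hss hO hd y₀ hy₀ hcomp hfin hle
  obtain ⟨hMP, hN, het, hdisj⟩ := hss
  obtain ⟨-, -, hqc, -, -, hi, -, -, -⟩ := hMP
  have hfp := hN.2.1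
  have hnoeth := isNoetherian q σ hN
  have hfield := K761.Ends.nodal_field (σ ≫ q) hN
  let iX : X.Over (Spec (CommRingCat.of k)) := ⟨σ ≫ q⟩
  have hlft : LocallyOfFiniteType (X ↘ Spec (CommRingCat.of k)) := inferInstanceAs (LocallyOfFiniteType (σ ≫ q))
  have hXred : IsReduced X := CurvesC.DualInvNodal.isReduced_of_atWorstNodal hfield.1
  have hE := conE_eq_preimage q σ hN y₀ hy₀ hcomp hfin
  have hD := conD_eq q σ hN y₀ hy₀ hcomp hfin
  have hsur := K897.Contract.surjective σ hO σ.isClosedMap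
  have hYN : IsLocallyNoetherian Y := LocallyOfFiniteType.isLocallyNoetherian q
  have hYred : IsReduced Y := K897.ContractNode.isReduced_target σ hO
  -- outer points and marked points over `y₀`
  let O : Set X := {x | σ x = y₀ ∧ x ∈ closure (σ ⁻¹' {y₀} : Set X)ᶜ}
  let M : Set X := {x | σ x = y₀ ∧ x ∈ Set.range (i.base : D → X)}
  have hOne : O.Nonempty := nonempty_outer q σ hO hd y₀ hy₀
  have hOsm : ∀ x ∈ O, x ∈ DualGr.nonsmoothPts (σ ≫ q) := by
    rintro x ⟨hx, hx'⟩
    have h1 : x ∈ conE σ := by rw [hE]; exact hx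
    rw [← hE] at hx'
    exact mem_nonsmoothPts (σ ≫ q) (isUnion_conE σ) h1 hx'
  have hOM : Disjoint O M := by
    rw [Set.disjoint_left]
    intro x hx hx'
    exact Set.disjoint_left.1 hdisj hx'.2 (hOsm x hx)
  have hunion : O.encard + M.encard ≤ 2 := by
    rw [← Set.encard_union_eq hOM]
    refine le_trans (Set.encard_le_encard ?_) hle
    rintro x (hx | hx)
    · exact ⟨hx.1, Or.inl hx.2⟩
    · exact ⟨hx.1, Or.inr hx.2⟩
  have hO1 : 1 ≤ O.encard := Set.one_le_encard_iff_nonempty.2 hOne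
  have hO2 : O.encard ≤ 2 := le_trans le_self_add hunion
  have hM1 : M.encard ≤ 1 := by
    have h1 : 1 + M.encard ≤ 1 + 1 := by
      rw [one_add_one_eq_two]
      exact le_trans (add_le_add_left hO1 _) hunion
    exact (ENat.add_le_add_iff_left ENat.one_ne_top).1 h1
  -- the outer points
  have hOex : ∃ x₁ ∈ O, ∃ x₂ ∈ O, ∀ x ∈ O, x = x₁ ∨ x = x₂ := by
    rcases hO2.lt_or_eq with h | h
    · have h' : O.encard ≤ 1 := by
        have : O.encard < 1 + 1 := by rwa [one_add_one_eq_two]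
        exact ENat.lt_add_one_iff (ENat.one_ne_top) |>.1 this
      obtain ⟨x₁, hx₁⟩ := hOne
      exact ⟨x₁, hx₁, x₁, hx₁, fun x hx => Or.inl ((Set.encard_le_one_iff_subsingleton.1 h') hx hx₁)⟩
    · obtain ⟨x₁, x₂, -, hO'⟩ := Set.encard_eq_two.1 h
      refine ⟨x₁, by rw [hO']; simp, x₂, by rw [hO']; simp, fun x hx => ?_⟩
      rw [hO'] at hx
      exact hx
  have hmemD : ∀ x, x ∈ conD σ ↔ x ∈ closure (σ ⁻¹' {y₀} : Set X)ᶜ := fun x => by rw [hD]
  have himg : ∀ y ∈ σ '' conE σ, y = y₀ := by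
    rintro y ⟨x, hx, rfl⟩
    rw [hE] at hx
    exact hx
  have hyE : y₀ ∈ σ '' conE σ := by
    obtain ⟨x, hx⟩ := hsur y₀
    exact ⟨x, by rw [hE]; exact hx, hx⟩
  have hnodal : Curv2.IsNodalFamily q := by
    refine K563.NodField.isNodalFamily q ?_ ?_
    · refine K897.ContractNode.atWorstNodal q σ hfield.2 hfield.1 hO ?_
      intro y hy
      obtain rfl := himg y hy
      obtain ⟨x₁, h₁, x₂, h₂, h⟩ := hOex
      exact ⟨x₁, (hmemD x₁).2 h₁.2, x₂, (hmemD x₂).2 h₂.2, h₁.1, h₂.1,
        fun x hx hxy => h x ⟨hxy, (hmemD x).1 hx⟩⟩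
    · exact_mod_cast (K122.ValBase.hasRelDim_field q 1).1 hd
  refine ⟨hnodal, ?_, ?_⟩
  · -- marked points are smooth
    rw [Set.disjoint_left]
    rintro _ ⟨d, rfl⟩
    have hdisc : DiscreteTopology D := S0658.discrete k D (i ≫ σ ≫ q)
    have hdcl : IsClosed ({i d} : Set X) := by
      rw [← Set.image_singleton]
      exact i.isClosedEmbedding.isClosedMap _ (isClosed_discrete _)
    have hycl : IsClosed ({σ (i d)} : Set Y) := by
      rw [← Set.image_singleton]
      exact σ.isClosedMap _ hdcl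
    have hsm : i d ∉ DualGr.nonsmoothPts (σ ≫ q) := Set.disjoint_left.1 hdisj ⟨d, rfl⟩
    rw [Scheme.Hom.comp_apply]
    apply notMem_nonsmoothPts q
    by_cases hyy : σ (i d) = y₀
    · -- one outer point
      have hdM : i d ∈ M := ⟨hyy, ⟨d, rfl⟩⟩
      have hM1' : 1 ≤ M.encard := Set.one_le_encard_iff_nonempty.2 ⟨_, hdM⟩
      have hO1' : O.encard ≤ 1 := by
        have h1 : O.encard + 1 ≤ 1 + 1 := by
          rw [one_add_one_eq_two]
          exact le_trans (add_le_add_right hM1' _) hunion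
        exact (ENat.add_le_add_iff_right ENat.one_ne_top).1 h1
      obtain ⟨x₁, hx₁⟩ := hOne
      rw [hyy]
      refine (K897.ContractNode.special q σ hfield.2 hfield.1 hO y₀ hyE x₁ x₁ ((hmemD x₁).2 hx₁.2)
        ((hmemD x₁).2 hx₁.2) hx₁.1 hx₁.1 (fun x hx hxy => Or.inl ?_)
        (K897.ContractNode.isPreconnected_fibre σ hO y₀)).1 rfl
      exact (Set.encard_le_one_iff_subsingleton.1 hO1') ⟨hxy, (hmemD x).1 hx⟩ hx₁
    · obtain ⟨V, hyV, hV⟩ := exists_isIso σ hO _ (hfin _ hycl hyy)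
      have hiso := isIso_stalkMap σ (i d) hyV
      let e : Y.presheaf.stalk (σ (i d)) ≃+* X.presheaf.stalk (i d) :=
        (asIso (σ.stalkMap (i d))).commRingCatIsoToRingEquiv
      rw [← K761.Ends.mem_smoothLocus_iff] at hsm
      have h1 : IsRegularLocalRing (X.presheaf.stalk (i d)) :=
        VarietyA.RegSmoothSch.isRegularLocalRing_stalk_of_mem_smoothLocus (σ ≫ q) (i d) hsm
      exact IsRegularLocalRing.of_ringEquiv e.symm
  · intro y hy
    by_cases hyy : y = y₀
    · subst hyy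
      intro a ha b hb
      exact i.isClosedEmbedding.injective
        (Set.encard_le_one_iff_subsingleton.1 hM1 (show i a ∈ M from ⟨ha, ⟨a, rfl⟩⟩) (show i b ∈ M from ⟨hb, ⟨b, rfl⟩⟩))
    · obtain ⟨V, hyV, hV⟩ := exists_isIso σ hO y (hfin y hy hyy)
      intro a ha b hb
      exact i.isClosedEmbedding.injective (subsingleton_preimage σ V hyV ha hb)

end K330.NodalK

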